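import Cfsg.Agent.H373.CoverOdd
import Cfsg.Agent.H783.UniTrans

/-!
# The element `u` of order `4 m` of `SU_{2m+1}(q)`, `m = 2 ^ s` (helper371, for S3463)

A hyperbolic frame `a, b, d`; `u₀` permutes `a i`, `b i` cyclically; `r` is the Siegel element of `a 0`, `d`;
`u = r u₀`. Then `u ^ m` is in the unipotent radical of the stabiliser of `W = ⟨a i⟩` and `u ^ (2 m)` is the
transvection of `∑ i, a i`.
-/

set_option autoImplicit false
set_option linter.unusedSectionVars false

universe v w

namespace Cfsg.Agent.H371.KU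

open Cfsg Cfsg.Agent.LieClassical.HermBasic Cfsg.Agent.LieClassical.HermSiegel Cfsg.Agent.H373.HermFrame
open Cfsg.Agent.H373 Cfsg.Agent.H321.Uni
open Module
open scoped Fin.NatCast

variable {F : Type v} [Field F] [Fintype F] {n q m : ℕ}

/-- a hyperbolic frame -/
structure Fr (q : ℕ) (a b : Fin m → Fin n → F) (d : Fin n → F) : Prop where
  haa : ∀ i j, hermForm n F q (a i) (a j) = 0
  hbb : ∀ i j, hermForm n F q (b i) (b j) = 0
  hab : ∀ i j, hermForm n F q (a i) (b j) = if i = j then 1 else 0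
  hba : ∀ i j, hermForm n F q (b i) (a j) = if i = j then 1 else 0
  hda : ∀ i, hermForm n F q d (a i) = 0
  hdb : ∀ i, hermForm n F q d (b i) = 0
  had : ∀ i, hermForm n F q (a i) d = 0
  hbd : ∀ i, hermForm n F q (b i) d = 0
  hdd : hermForm n F q d d = 1
  decomp : ∀ w, w = ∑ i, hermForm n F q w (b i) • a i + ∑ i, hermForm n F q w (a i) • b i +
    hermForm n F q w d • d

theorem exists_fr [CharP F 2] (hF : Fintype.card F = q ^ 2) (hn : n = 2 * m + 1) :
    ∃ (a b : Fin m → Fin n → F) (d : Fin n → F), Fr q a b d := by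
  have hnd : ND q (⊤ : Submodule F (Fin n → F)) := fun w _ h => herm_nondeg hF fun v => h v trivial
  have hdim : finrank F (⊤ : Submodule F (Fin n → F)) = 2 * m + 1 := by
    rw [finrank_top, Module.finrank_fin_fun, hn]
  obtain ⟨a, b, c, hfr⟩ := HermFrame.exists_frame hF (CoverOdd.au_std hF) m ⊤ hnd (fun _ _ => trivial) hdim
  obtain ⟨γ, hγ0, hγ⟩ := exists_norm_eq_ne hF (herm_self_pow hF c) hfr.hcc
  have hγq : γ ^ q ≠ 0 := pow_ne_zero _ hγ0
  refine ⟨a, b, γ⁻¹ • c, hfr.haa, hfr.hbb, hfr.hab, hfr.hba, ?_, ?_, ?_, ?_, ?_, ?_⟩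
  · intro i; rw [herm_smul_left, hfr.hca, mul_zero]
  · intro i; rw [herm_smul_left, hfr.hcb, mul_zero]
  · intro i; rw [herm_smul_right, hfr.hac, mul_zero]
  · intro i; rw [herm_smul_right, hfr.hbc, mul_zero]
  · rw [herm_smul_right, herm_smul_left, ← hγ, inv_pow]
    field_simp
  · intro w
    conv_lhs => rw [hfr.decomp w trivial]
    congr 1
    rw [herm_smul_right, smul_smul, ← hγ, inv_pow]
    congr 1
    field_simp

section

variable {a b : Fin m → Fin n → F} {d : Fin n → F} (fr : Fr q a b d)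

/-- the isotropic subspace -/
def WW (a : Fin m → Fin n → F) : Submodule F (Fin n → F) := Submodule.span F (Set.range a)

theorem mem_WW (i : Fin m) : a i ∈ WW a := Submodule.subset_span ⟨i, rfl⟩

include fr

theorem Fr.li : LinearIndependent F a := by
  rw [Fintype.linearIndependent_iff]
  intro g hg i
  have h := congrArg (fun v => hermForm n F q v (b i)) hg
  simp only [herm_sum_left, herm_smul_left, fr.hab, herm_zero_left] at h
  simpa using h

theorem Fr.finrank : finrank F (WW a) = m := by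
  rw [WW, finrank_span_eq_card fr.li, Fintype.card_fin]

theorem Fr.ti (hF : Fintype.card F = q ^ 2) {x y : Fin n → F} (hx : x ∈ WW a) (hy : y ∈ WW a) :
    hermForm n F q x y = 0 := by
  refine Submodule.span_induction (p := fun y _ => hermForm n F q x y = 0) ?_ ?_ ?_ ?_ hy
  · rintro _ ⟨j, rfl⟩
    refine Submodule.span_induction (p := fun x _ => hermForm n F q x (a j) = 0) ?_ ?_ ?_ ?_ hx
    · rintro _ ⟨i, rfl⟩
      exact fr.haa i j
    · exact herm_zero_left _
    · intro x y _ _ h1 h2
      rw [herm_add_left, h1, h2, add_zero]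
    · intro c x _ h
      rw [herm_smul_left, h, mul_zero]
  · exact herm_zero_right hF _
  · intro y z _ _ h1 h2
    rw [herm_add_right hF, h1, h2, add_zero]
  · intro c y _ h
    rw [herm_smul_right, h, mul_zero]

theorem Fr.dW (hF : Fintype.card F = q ^ 2) {x : Fin n → F} (hx : x ∈ WW a) : hermForm n F q d x = 0 := by
  refine Submodule.span_induction (p := fun y _ => hermForm n F q d y = 0) ?_ ?_ ?_ ?_ hx
  · rintro _ ⟨i, rfl⟩
    exact fr.hda i
  · exact herm_zero_right hF _
  · intro y z _ _ h1 h2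
    rw [herm_add_right hF, h1, h2, add_zero]
  · intro c y _ h
    rw [herm_smul_right, h, mul_zero]

theorem Fr.Wd (hF : Fintype.card F = q ^ 2) {x : Fin n → F} (hx : x ∈ WW a) : hermForm n F q x d = 0 :=
  herm_eq_zero_swap hF (fr.dW hF hx)

end

/-! ### the cyclic shift -/

theorem cast_succ' {m : ℕ} [NeZero m] (i : Fin m) (k : ℕ) :
    i + ((k + 1 : ℕ) : Fin m) = i + (k : Fin m) + 1 := by
  have : ((k + 1 : ℕ) : Fin m) = (k : Fin m) + 1 := by
    ext; simp [Fin.val_add]
  rw [this, add_assoc]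

theorem eq_one_of_pow_two_pow {K : Type*} [Field K] [CharP K 2] {x : K} {s : ℕ} (h : x ^ 2 ^ s = 1) : x = 1 := by
  have : Fact (Nat.Prime 2) := ⟨Nat.prime_two⟩
  have h1 : (x - 1) ^ 2 ^ s = 0 := by rw [sub_pow_char_pow, one_pow, h, sub_self]
  exact sub_eq_zero.1 (pow_eq_zero_iff (pow_ne_zero _ two_ne_zero) |>.1 h1)

section Shift

variable [NeZero m] (q) (a b : Fin m → Fin n → F) (d : Fin n → F)

/-- the cyclic shift of the frame -/
def shL : (Fin n → F) →ₗ[F] (Fin n → F) where
  toFun v := ∑ i, hermForm n F q v (b i) • a (i + 1) + ∑ i, hermForm n F q v (a i) • b (i + 1) +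
    hermForm n F q v d • d
  map_add' x y := by
    simp only [herm_add_left, add_smul, Finset.sum_add_distrib]
    abel
  map_smul' c x := by
    simp only [herm_smul_left, mul_smul, RingHom.id_apply, smul_add, Finset.smul_sum]

theorem shL_apply (v : Fin n → F) : shL q a b d v =
    ∑ i, hermForm n F q v (b i) • a (i + 1) + ∑ i, hermForm n F q v (a i) • b (i + 1) +
    hermForm n F q v d • d := rfl

variable {q a b d} (fr : Fr q a b d)

include fr

theorem shL_a (i : Fin m) : shL q a b d (a i) = a (i + 1) := by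
  simp [shL_apply, fr.hab, fr.haa, fr.had]

theorem shL_b (i : Fin m) : shL q a b d (b i) = b (i + 1) := by
  simp [shL_apply, fr.hbb, fr.hba, fr.hbd]

theorem shL_d : shL q a b d d = d := by
  simp [shL_apply, fr.hdb, fr.hda, fr.hdd]

theorem herm_shL (hF : Fintype.card F = q ^ 2) (x y : Fin n → F) :
    hermForm n F q (shL q a b d x) (shL q a b d y) = hermForm n F q x y := by
  have h1 : ∀ i j : Fin m, (i + 1 = j + 1) ↔ i = j := fun i j => add_left_inj 1
  have e1 : ∀ z : Fin n → F, ∀ j, hermForm n F q (shL q a b d z) (a (j + 1)) = hermForm n F q z (a j) := by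
    intro z j
    simp only [shL_apply, herm_add_left, herm_sum_left, herm_smul_left, fr.haa, fr.hba, fr.hda, h1, mul_zero,
      mul_ite, mul_one, Finset.sum_const_zero, Finset.sum_ite_eq', Finset.mem_univ, if_true, zero_add, add_zero]
  have e2 : ∀ z : Fin n → F, ∀ j, hermForm n F q (shL q a b d z) (b (j + 1)) = hermForm n F q z (b j) := by
    intro z j
    simp only [shL_apply, herm_add_left, herm_sum_left, herm_smul_left, fr.hbb, fr.hab, fr.hdb, h1, mul_zero,
      mul_ite, mul_one, Finset.sum_const_zero, Finset.sum_ite_eq', Finset.mem_univ, if_true, add_zero]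
  have e3 : ∀ z : Fin n → F, hermForm n F q (shL q a b d z) d = hermForm n F q z d := by
    intro z
    simp only [shL_apply, herm_add_left, herm_sum_left, herm_smul_left, fr.hbd, fr.had, fr.hdd, mul_zero,
      mul_one, Finset.sum_const_zero, zero_add]
  rw [shL_apply q a b d y]
  conv_rhs => rw [fr.decomp y]
  simp only [herm_add_right hF, herm_sum_right hF, herm_smul_right, e1, e2, e3]

theorem shL_pow_a (k : ℕ) (i : Fin m) : ((shL q a b d) ^ k) (a i) = a (i + (k : Fin m)) := by
  induction k with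
  | zero => simp
  | succ k ih => rw [pow_succ', Module.End.mul_apply, ih, shL_a fr, cast_succ']

theorem shL_pow_b (k : ℕ) (i : Fin m) : ((shL q a b d) ^ k) (b i) = b (i + (k : Fin m)) := by
  induction k with
  | zero => simp
  | succ k ih => rw [pow_succ', Module.End.mul_apply, ih, shL_b fr, cast_succ']

theorem shL_pow_d (k : ℕ) : ((shL q a b d) ^ k) d = d := by
  induction k with
  | zero => simp
  | succ k ih => rw [pow_succ', Module.End.mul_apply, ih, shL_d fr]

theorem shL_pow_m : (shL q a b d) ^ m = 1 := by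
  apply LinearMap.ext
  intro v
  have hm : ((m : ℕ) : Fin m) = 0 := Fin.natCast_self m
  conv_lhs => rw [fr.decomp v]
  rw [map_add, map_add, map_sum, map_sum]
  simp only [map_smul, shL_pow_a fr, shL_pow_b fr, shL_pow_d fr, hm, add_zero]
  rw [← fr.decomp v]
  rfl

theorem det_shL [CharP F 2] {s : ℕ} (hs : m = 2 ^ s) : (LinearMap.toMatrix' (shL q a b d)).det = 1 := by
  have h1 : LinearMap.det ((shL q a b d) ^ m) = 1 := by rw [shL_pow_m fr, map_one]
  rw [map_pow] at h1
  rw [LinearMap.det_toMatrix']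
  generalize LinearMap.det (shL q a b d) = x at h1 ⊢
  rw [hs] at h1
  exact eq_one_of_pow_two_pow h1

/-- the element `u₀` -/
def sh [CharP F 2] (hF : Fintype.card F = q ^ 2) {s : ℕ} (hs : m = 2 ^ s) : SU n F q :=
  mkSU (LinearMap.toMatrix' (shL q a b d)) (det_shL fr hs) (fun x y => by
    rw [LinearMap.toMatrix'_mulVec, LinearMap.toMatrix'_mulVec]
    exact herm_shL fr hF x y)

theorem act_sh [CharP F 2] (hF : Fintype.card F = q ^ 2) {s : ℕ} (hs : m = 2 ^ s) (v : Fin n → F) :
    act (sh fr hF hs) v = shL q a b d v := by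
  rw [act_def, sh, mat_mkSU, LinearMap.toMatrix'_mulVec]

theorem sh_pow [CharP F 2] (hF : Fintype.card F = q ^ 2) {s : ℕ} (hs : m = 2 ^ s) (k : ℕ) (v : Fin n → F) :
    act (sh fr hF hs ^ k) v = ((shL q a b d) ^ k) v := by
  induction k generalizing v with
  | zero => rw [pow_zero, pow_zero, act_one]; rfl
  | succ k ih => rw [pow_succ, pow_succ, act_mul, ih, act_sh, Module.End.mul_apply]

theorem sh_pow_m [CharP F 2] (hF : Fintype.card F = q ^ 2) {s : ℕ} (hs : m = 2 ^ s) : sh fr hF hs ^ m = 1 := by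
  apply ext_act
  intro v
  rw [sh_pow, shL_pow_m fr, act_one]
  rfl

end Shift

/-! ### the unipotent radical -/

section Radical

variable {a b : Fin m → Fin n → F} {d : Fin n → F}

/-- the elements of the unipotent radical of the stabilizer of `W`, with their image in `W` -/
structure RR (q : ℕ) (a : Fin m → Fin n → F) (d : Fin n → F) (y : Fin n → F) (g : SU n F q) : Prop where
  fixW : ∀ x ∈ WW a, act g x = x
  fixd : act g d = d + y
  mem : ∀ v, ∃ w ∈ WW a, act g v = v + hermForm n F q v y • d + w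
  yW : y ∈ WW a

theorem RR.mul {y z : Fin n → F} (hF : Fintype.card F = q ^ 2) {g h : SU n F q} (hg : RR q a d y g) (hh : RR q a d z h) :
    RR q a d (y + z) (g * h) := by
  refine ⟨fun x hx => ?_, ?_, fun v => ?_, Submodule.add_mem _ hg.yW hh.yW⟩
  · rw [act_mul, hh.fixW x hx, hg.fixW x hx]
  · rw [act_mul, hh.fixd, act_add, hg.fixd, hg.fixW _ hh.yW, add_assoc]
  · obtain ⟨w, hw, h1⟩ := hg.mem v
    obtain ⟨w', hw', h2⟩ := hh.mem v
    refine ⟨w + w' + hermForm n F q v z • y, Submodule.add_mem _ (Submodule.add_mem _ hw hw')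
      (Submodule.smul_mem _ _ hg.yW), ?_⟩
    rw [act_mul, h2, act_add, act_add, act_smul, hg.fixd, hg.fixW _ hw', h1, herm_add_right hF]
    module

theorem RR.one (hF : Fintype.card F = q ^ 2) : RR q a d (0 : Fin n → F) (1 : SU n F q) :=
  ⟨fun x _ => act_one x, by rw [act_one, add_zero], fun v => ⟨0, Submodule.zero_mem _, by
    rw [act_one, herm_zero_right hF, zero_smul, add_zero, add_zero]⟩, Submodule.zero_mem _⟩

theorem RR.conj {y : Fin n → F} {g x : SU n F q} (hg : RR q a d y g) (hx : ∀ w ∈ WW a, act x w ∈ WW a)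
    (hx' : ∀ w ∈ WW a, act x⁻¹ w ∈ WW a) (hd : act x d = d) : RR q a d (act x y) (x * g * x⁻¹) := by
  have hd' : act x⁻¹ d = d := by
    conv_lhs => rw [← hd]
    exact act_inv_act x d
  refine ⟨fun w hw => ?_, ?_, fun v => ?_, hx _ hg.yW⟩
  · rw [act_mul, act_mul, hg.fixW _ (hx' w hw), act_act_inv]
  · rw [act_mul, act_mul, hd', hg.fixd, act_add, hd]
  · obtain ⟨w, hw, h1⟩ := hg.mem (act x⁻¹ v)
    refine ⟨act x w, hx w hw, ?_⟩
    rw [act_mul, act_mul, h1, act_add, act_add, act_smul, act_act_inv, hd, herm_act_left, inv_inv]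

theorem RR.sq {y : Fin n → F} {g : SU n F q} [CharP F 2] (hg : RR q a d y g) (v : Fin n → F) :
    act (g * g) v = v + hermForm n F q v y • y := by
  obtain ⟨w, hw, h1⟩ := hg.mem v
  rw [act_mul, h1, act_add, act_add, act_smul, hg.fixd, hg.fixW _ hw, h1]
  funext i
  simp only [Pi.add_apply, Pi.smul_apply, smul_eq_mul]
  grobner

end Radical

end Cfsg.Agent.H371.KU
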