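import Cfsg.Agent.H371.KU.Elt

/-!
# The elements `u`, `u a'` (helper371, for S3463)
-/

set_option autoImplicit false
set_option linter.unusedSectionVars false

universe v w

namespace Cfsg.Agent.H371.KU

open Cfsg Cfsg.Agent.LieClassical.HermBasic Cfsg.Agent.LieClassical.HermSiegel Cfsg.Agent.H373.HermFrame
open Cfsg.Agent.H373 Cfsg.Agent.H321.Uni
open Module
open scoped Fin.NatCast

variable {F : Type v} [Field F] [Fintype F] {n q m : ℕ}

theorem act_pow_mem {W : Submodule F (Fin n → F)} {g : SU n F q} (hg : ∀ w ∈ W, act g w ∈ W) (k : ℕ) :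
    ∀ w ∈ W, act (g ^ k) w ∈ W := by
  induction k with
  | zero => intro w hw; rwa [pow_zero, act_one]
  | succ k ih => intro w hw; rw [pow_succ', act_mul]; exact hg _ (ih w hw)

theorem act_inv_mem {W : Submodule F (Fin n → F)} {g : SU n F q} (hg : ∀ w ∈ W, act g w ∈ W) :
    ∀ w ∈ W, act g⁻¹ w ∈ W := by
  obtain ⟨k, hk⟩ := (isOfFinOrder_of_finite g).mem_powers_iff_mem_zpowers.2
    (inv_mem (Subgroup.mem_zpowers g))
  have h := act_pow_mem hg k
  have hk' : g ^ k = g⁻¹ := hk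
  rwa [hk'] at h

section

variable {a b : Fin m → Fin n → F} {d : Fin n → F} (hF : Fintype.card F = q ^ 2) (fr : Fr q a b d)

/-- the group `A` -/
def AA : Subgroup (SU n F q) where
  carrier := {g | (∀ v, act g v - v ∈ WW a) ∧ ∀ v, (∀ x ∈ WW a, hermForm n F q v x = 0) → act g v = v}
  one_mem' := ⟨fun v => by rw [act_one, sub_self]; exact Submodule.zero_mem _, fun v _ => act_one v⟩
  mul_mem' := by
    rintro g h ⟨h1, h2⟩ ⟨h3, h4⟩
    refine ⟨fun v => ?_, fun v hv => ?_⟩
    · obtain ⟨w, hw⟩ : ∃ w, w = act h v - v := ⟨_, rfl⟩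
      have hw' : w ∈ WW a := hw ▸ h3 v
      have e : act h v = v + w := by rw [hw]; abel
      rw [act_mul, e, act_add, h2 w (fun x hx => fr.ti hF hw' hx)]
      have : act g v + w - v = (act g v - v) + w := by abel
      rw [this]
      exact Submodule.add_mem _ (h1 v) hw'
    · rw [act_mul, h4 v hv, h2 v hv]
  inv_mem' := by
    rintro g ⟨h1, h2⟩
    refine ⟨fun v => ?_, fun v hv => ?_⟩
    · have h3 := h1 (act g⁻¹ v)
      rw [act_act_inv] at h3
      have : act g⁻¹ v - v = -(v - act g⁻¹ v) := by abel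
      rw [this]
      exact Submodule.neg_mem _ h3
    · conv_lhs => rw [← h2 v hv]
      exact act_inv_act g v

variable {hF fr}

theorem AA.fix {g : SU n F q} (hg : g ∈ AA hF fr) {x : Fin n → F} (hx : x ∈ WW a) : act g x = x :=
  hg.2 x (fun _ hy => fr.ti hF hx hy)

theorem AA.fixd {g : SU n F q} (hg : g ∈ AA hF fr) : act g d = d := hg.2 d (fun _ hy => fr.dW hF hy)

theorem AA.ex {g : SU n F q} (hg : g ∈ AA hF fr) (v : Fin n → F) : ∃ w ∈ WW a, act g v = v + w :=
  ⟨act g v - v, hg.1 v, by abel⟩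

theorem AA.comm {g h : SU n F q} (hg : g ∈ AA hF fr) (hh : h ∈ AA hF fr) : g * h = h * g := by
  apply ext_act
  intro v
  obtain ⟨w, hw, h1⟩ := AA.ex hg v
  obtain ⟨w', hw', h2⟩ := AA.ex hh v
  rw [act_mul, act_mul, h1, h2, act_add, act_add, AA.fix hg hw', AA.fix hh hw, h1, h2]
  abel

theorem AA.sq [CharP F 2] {g : SU n F q} (hg : g ∈ AA hF fr) : g * g = 1 := by
  apply ext_act
  intro v
  obtain ⟨w, hw, h1⟩ := AA.ex hg v
  rw [act_mul, act_one, h1, act_add, AA.fix hg hw, h1]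
  funext i
  simp only [Pi.add_apply]
  grobner

theorem AA.conj {g x : SU n F q} (hg : g ∈ AA hF fr) (hx : ∀ w ∈ WW a, act x w ∈ WW a) : x⁻¹ * g * x ∈ AA hF fr := by
  have hx' := act_inv_mem hx
  refine ⟨fun v => ?_, fun v hv => ?_⟩
  · obtain ⟨w, hw, h1⟩ := AA.ex hg (act x v)
    rw [act_mul, act_mul, h1, act_add, act_inv_act, add_sub_cancel_left]
    exact hx' w hw
  · rw [act_mul, act_mul, hg.2, act_inv_act]
    intro y hy
    rw [herm_act_left]
    exact hv _ (hx' y hy)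

theorem AA.conj' {g x : SU n F q} (hg : g ∈ AA hF fr) (hx : ∀ w ∈ WW a, act x w ∈ WW a) : x * g * x⁻¹ ∈ AA hF fr := by
  have h := AA.conj hg (act_inv_mem hx)
  rwa [inv_inv] at h

theorem AA.comm_RR {g h : SU n F q} (hg : g ∈ AA hF fr) {y : Fin n → F} (hh : RR q a d y h) : h * g = g * h := by
  apply ext_act
  intro v
  obtain ⟨w, hw, h1⟩ := AA.ex hg v
  obtain ⟨w', hw', h2⟩ := hh.mem v
  rw [act_mul, act_mul, h1, h2, act_add, act_add, act_add, act_smul, hh.fixW _ hw, AA.fixd hg, AA.fix hg hw', h1, h2]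
  abel

variable (hF fr)

/-- the transvections -/
def tt [CharP F 2] (x : WW a) : SU n F q :=
  siegel hF (x : Fin n → F) 0 1 (CoverOdd.isSiegel_t (fr.ti hF x.2 x.2) (one_pow q))

theorem act_tt [CharP F 2] (x : WW a) (v : Fin n → F) :
    act (tt hF fr x) v = v + hermForm n F q v x • (x : Fin n → F) := by
  rw [tt, CoverOdd.act_t hF (fr.ti hF x.2 x.2) (one_pow q), one_mul]

theorem tt_mem [CharP F 2] (x : WW a) : tt hF fr x ∈ AA hF fr := by
  refine ⟨fun v => ?_, fun v hv => ?_⟩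
  · rw [act_tt, add_sub_cancel_left]
    exact Submodule.smul_mem _ _ x.2
  · rw [act_tt, hv x x.2, zero_smul, add_zero]

theorem conj_tt [CharP F 2] (x : WW a) (g : SU n F q) (y : WW a) (h : act g x = y) :
    g * tt hF fr x * g⁻¹ = tt hF fr y := by
  apply ext_act
  intro v
  rw [act_mul, act_mul, act_tt, act_tt, act_add, act_smul, act_act_inv, h, herm_act_left, inv_inv, h]

variable [CharP F 2] [NeZero m] {s : ℕ} (hs : m = 2 ^ s)

theorem sh_mem {x : Fin n → F} (hx : x ∈ WW a) : act (sh fr hF hs) x ∈ WW a := by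
  refine Submodule.span_induction (p := fun x _ => act (sh fr hF hs) x ∈ WW a) ?_ ?_ ?_ ?_ hx
  · rintro _ ⟨i, rfl⟩
    rw [act_sh, shL_a fr]
    exact mem_WW _
  · rw [act_zero]; exact Submodule.zero_mem _
  · intro x y _ _ h1 h2
    rw [act_add]; exact Submodule.add_mem _ h1 h2
  · intro c x _ h
    rw [act_smul]; exact Submodule.smul_mem _ _ h

include fr in
theorem isSiegel_r {l : F} (hl : l + l ^ q = 1) : IsSiegel q (a 0) d l :=
  ⟨fr.haa _ _, fr.hda _, by rw [hl, fr.hdd]; exact CharTwo.add_self_eq_zero 1⟩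

/-- the element `r` -/
def rr (fr : Fr q a b d) {l : F} (hl : l + l ^ q = 1) : SU n F q := siegel hF (a 0) d l (isSiegel_r fr hl)

theorem RR_rr {l : F} (hl : l + l ^ q = 1) : RR q a d (a 0) (rr hF fr hl) := by
  have hact : ∀ v, act (rr hF fr hl) v = v + hermForm n F q v (a 0) • d +
      (l * hermForm n F q v (a 0) - hermForm n F q v d) • a 0 := fun v => act_siegel hF _ v
  refine ⟨fun x hx => ?_, ?_, fun v => ⟨_, Submodule.smul_mem _ _ (mem_WW 0), hact v⟩, mem_WW 0⟩
  · rw [hact, fr.ti hF hx (mem_WW 0), fr.Wd hF hx]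
    simp
  · rw [hact, fr.hda, fr.hdd]
    simp [CharTwo.neg_eq]

/-- the element `u` -/
def uu {l : F} (hl : l + l ^ q = 1) : SU n F q := rr hF fr hl * sh fr hF hs

theorem uu_a {l : F} (hl : l + l ^ q = 1) (i : Fin m) : act (uu hF fr hs hl) (a i) = a (i + 1) := by
  rw [uu, act_mul, act_sh, shL_a fr, (RR_rr hF fr hl).fixW _ (mem_WW _)]

theorem uu_mem {l : F} (hl : l + l ^ q = 1) {x : Fin n → F} (hx : x ∈ WW a) :
    act (uu hF fr hs hl) x ∈ WW a := by
  rw [uu, act_mul, (RR_rr hF fr hl).fixW _ (sh_mem hF fr hs hx)]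
  exact sh_mem hF fr hs hx

theorem uu_pow {l : F} (hl : l + l ^ q = 1) (k : ℕ) :
    ∃ ρ, RR q a d (∑ i ∈ Finset.range k, a (i : Fin m)) ρ ∧ uu hF fr hs hl ^ k = ρ * sh fr hF hs ^ k := by
  induction k with
  | zero => exact ⟨1, by rw [Finset.range_zero, Finset.sum_empty]; exact RR.one hF, by simp⟩
  | succ k ih =>
    obtain ⟨ρ, h1, h2⟩ := ih
    have h3 := (RR_rr hF fr hl).mul hF (h1.conj (x := sh fr hF hs) (fun w hw => sh_mem hF fr hs hw)
      (act_inv_mem (fun w hw => sh_mem hF fr hs hw)) (by rw [act_sh, shL_d fr]))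
    refine ⟨rr hF fr hl * (sh fr hF hs * ρ * (sh fr hF hs)⁻¹), ?_, ?_⟩
    · have e : ∑ i ∈ Finset.range (k + 1), a (i : Fin m) =
          a 0 + act (sh fr hF hs) (∑ i ∈ Finset.range k, a (i : Fin m)) := by
        rw [Finset.sum_range_succ', act_sum, add_comm]
        congr 1
        refine Finset.sum_congr rfl fun i _ => ?_
        rw [act_sh, shL_a fr]
        congr 1
        have := cast_succ' (0 : Fin m) i
        rwa [zero_add, zero_add] at this
      rw [e]
      exact h3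
    · rw [pow_succ', h2, uu]
      group

theorem uu_pow_m {l : F} (hl : l + l ^ q = 1) : RR q a d (∑ i, a i) (uu hF fr hs hl ^ m) := by
  obtain ⟨ρ, h1, h2⟩ := uu_pow hF fr hs hl m
  rw [h2, sh_pow_m fr hF hs, mul_one]
  rw [Finset.sum_range] at h1
  simpa using h1

end

end Cfsg.Agent.H371.KU
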