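import Cfsg.Agent.H371.KU.Nrm
import Cfsg.Agent.H371.KU.QuadBasis
import Cfsg.Agent.H371.KU.Shift

/-!
# Covers of `PSU_n(q)`, `q` even, `n = 2 ^ (s + 1) + 1` (helper371, for S3463)
-/

set_option autoImplicit false
set_option linter.unusedSectionVars false

universe v w

namespace Cfsg.Agent.H371.KU

open Cfsg Cfsg.Agent.LieClassical.HermBasic Cfsg.Agent.LieClassical.HermSiegel Cfsg.Agent.H373.HermFrame
open Cfsg.Agent.H373 Cfsg.Agent.H321.Uni
open Module
open scoped Fin.NatCast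

variable {F : Type v} [Field F] [Fintype F] [CharP F 2] {n q m : ℕ} [NeZero m]
variable {a b : Fin m → Fin n → F} {d : Fin n → F} (hF : Fintype.card F = q ^ 2) (fr : Fr q a b d)
variable {s : ℕ} (hs : m = 2 ^ s) {l : F} (hl : l + l ^ q = 1)

include hs hl

theorem exists_main (hn : n = 2 * m + 1) (hm : 4 ≤ m) {V : Type w} [AddCommGroup V]
    (hodd : ∀ v : V, v + v = 0 → v = 0) (φ : SU n F q →* AddMonoid.End V)
    {v₁ : V} (hv₁ : φ (ta hF fr 0) v₁ ≠ v₁) :
    ∃ u : SU n F q, orderOf u = 2 ^ (s + 2) ∧ ∃ w : V, w ≠ 0 ∧ φ u w = w := by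
  classical
  have hmulφ : ∀ (a b : SU n F q) (v : V), φ (a * b) v = φ a (φ b v) := fun a b v => by rw [map_mul]; rfl
  have honeφ : ∀ v : V, φ 1 v = v := fun v => by rw [map_one]; rfl
  obtain ⟨v₀, h0, ht0, hA⟩ := CoverOdd.exists_common φ (AA hF fr : Set (SU n F q)) (Set.toFinite _)
    (fun a ha b hb => AA.comm ha hb) (fun a ha => AA.sq ha) (ta_mem hF fr 0) (v₁ - φ (ta hF fr 0) v₁)
    (fun h => hv₁ (sub_eq_zero.1 h).symm) (by
      rw [map_sub, ← hmulφ, AA.sq (ta_mem hF fr 0), honeφ]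
      abel)
  have hA' : ∀ a ∈ AA hF fr, φ a v₀ = v₀ ∨ φ a v₀ = -v₀ := hA
  let f : WW a → ℤˣ := fun x => sg φ v₀ (tt hF fr x)
  have hfm : ∀ {g h : SU n F q}, g ∈ AA hF fr → h ∈ AA hF fr → sg φ v₀ (g * h) = sg φ v₀ g * sg φ v₀ h :=
    fun hg hh => sg_mul hodd h0 hA' hg hh
  have m2 : ∀ x y : WW a, tt hF fr x * tt hF fr y ∈ AA hF fr := fun x y =>
    mul_mem (tt_mem hF fr x) (tt_mem hF fr y)
  have m3 : ∀ x y z : WW a, tt hF fr x * (tt hF fr y * tt hF fr z) ∈ AA hF fr := fun x y z =>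
    mul_mem (tt_mem hF fr x) (m2 y z)
  have e3 : ∀ x y z : WW a, f x * f y * f z = sg φ v₀ (tt hF fr x * (tt hF fr y * tt hF fr z)) := by
    intro x y z
    rw [hfm (tt_mem hF fr x) (m2 y z), hfm (tt_mem hF fr y) (tt_mem hF fr z), mul_assoc]
  have hB : ∀ x y z, f (x + y + z) * f (x + y) * f z = (f (x + z) * f x * f z) * (f (y + z) * f y * f z) := by
    intro x y z
    rw [e3, e3, e3, ← hfm (m3 _ _ _) (m3 _ _ _)]
    congr 1
    apply ext_act
    intro v
    rw [act_tt_mul hF fr (m2 _ _), act_tt_mul hF fr (tt_mem hF fr _), act_tt]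
    rw [mul_assoc, act_tt_mul hF fr (mul_mem (m2 _ _) (m3 _ _ _)), mul_assoc,
      act_tt_mul hF fr (mul_mem (tt_mem hF fr _) (m3 _ _ _)), act_tt_mul hF fr (m3 _ _ _),
      act_tt_mul hF fr (m2 _ _), act_tt_mul hF fr (tt_mem hF fr _), act_tt]
    simp only [Submodule.coe_add, herm_add_right hF]
    funext i
    simp only [Pi.add_apply, Pi.smul_apply, smul_eq_mul]
    grobner
  have hgen : (∀ x y, f (x + y) = f x * f y) → ∀ x, f x = 1 := by
    intro hadd x
    have h1 : tt hF fr x = tt hF fr (x + l • x) * (tt hF fr x * tt hF fr (l • x)) := by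
      apply ext_act
      intro v
      rw [act_tt_mul hF fr (m2 _ _), act_tt_mul hF fr (tt_mem hF fr _), act_tt, act_tt]
      simp only [Submodule.coe_add, Submodule.coe_smul, herm_add_right hF, herm_smul_right]
      have h3 : l ^ q = 1 + l := by
        have := CharTwo.add_self_eq_zero l
        linear_combination hl - this
      rw [h3]
      funext i
      simp only [Pi.add_apply, Pi.smul_apply, smul_eq_mul]
      grobner
    have h2 : f x = f (x + l • x) * f x * f (l • x) := by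
      rw [e3, ← h1]
    rw [h2, hadd]
    have h3 : ∀ y : ℤˣ, y * y = 1 := Int.units_mul_self
    rw [mul_assoc (f x * f (l • x)), h3]
  have hx₀ : f ⟨a 0, mem_WW 0⟩ = -1 := by
    show sg φ v₀ (ta hF fr 0) = -1
    unfold sg
    rw [if_neg]
    intro h
    rw [h] at ht0
    exact h0 (hodd _ (by nth_rewrite 1 [ht0]; abel))
  obtain ⟨p, hp1, hp2⟩ := exists_basis (F := F) hB hm fr.finrank hgen hx₀
  -- move the frame
  let A0 : Basis (Fin m) F (WW a) := Basis.span fr.li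
  have hA0 : ∀ i, ((A0 i : WW a) : Fin n → F) = a i := fun i => by
    show ((Basis.span fr.li i : Submodule.span F (Set.range a)) : Fin n → F) = a i
    rw [Basis.span_apply]
  let θ : WW a →ₗ[F] (Fin n → F) := (WW a).subtype ∘ₗ (A0.equiv p (Equiv.refl _)).toLinearMap
  have hθ : ∀ x, θ x ∈ WW a := fun x => (A0.equiv p (Equiv.refl _) x).2
  obtain ⟨g, hg⟩ := H783.UniTrans.exists_act_eq hF hn (WW a) (fun x hx y hy => fr.ti hF hx hy) θ
    (by
      intro x y hxy
      exact (A0.equiv p (Equiv.refl _)).injective (Subtype.ext hxy))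
    (fun x y => fr.ti hF (hθ x) (hθ y))
  have hgW : ∀ w ∈ WW a, act g w ∈ WW a := fun w hw => by
    have := hg ⟨w, hw⟩
    rw [show act g w = θ ⟨w, hw⟩ from this]
    exact hθ _
  have hga : ∀ i, act g (a i) = (p i : Fin n → F) := by
    intro i
    have h1 := hg (A0 i)
    rw [hA0] at h1
    rw [h1]
    show ((A0.equiv p (Equiv.refl _) (A0 i) : WW a) : Fin n → F) = _
    rw [Basis.equiv_apply]
    rfl
  -- the new vector
  let v₂ : V := φ g⁻¹ v₀
  have hv2 : ∀ h ∈ AA hF fr, φ h v₂ = (sg φ v₀ (g * h * g⁻¹) : ℤ) • v₂ := by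
    intro h hh
    show φ h (φ g⁻¹ v₀) = (sg φ v₀ (g * h * g⁻¹) : ℤ) • φ g⁻¹ v₀
    rw [← hmulφ, show h * g⁻¹ = g⁻¹ * (g * h * g⁻¹) by group, hmulφ,
      sg_smul (hA' _ (AA.conj' hh hgW)), map_zsmul]
  have hv20 : v₂ ≠ 0 := by
    intro h
    apply h0
    have : φ g v₂ = v₀ := by
      show φ g (φ g⁻¹ v₀) = v₀
      rw [← hmulφ, mul_inv_cancel, honeφ]
    rw [← this, h, map_zero]
  have hpm : ∀ {x : V} (y : ℤˣ), (y : ℤ) • x = x ∨ (y : ℤ) • x = -x := by
    intro x y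
    rcases Int.units_eq_one_or y with rfl | rfl <;> simp
  have hAv2 : ∀ h ∈ AA hF fr, φ h v₂ = v₂ ∨ φ h v₂ = -v₂ := fun h hh => by
    rw [hv2 h hh]
    exact hpm _
  have hta : ∀ j, φ (ta hF fr j) v₂ = (f (p j) : ℤ) • v₂ := by
    intro j
    rw [hv2 _ (ta_mem hF fr j), ta, conj_tt hF fr _ g (p j) (hga j)]
  have hsa : φ (tt hF fr (sa a)) v₂ = v₂ := by
    rw [hv2 _ (tt_mem hF fr _), conj_tt hF fr _ g (∑ i, p i) (by
      show act g (∑ i, a i) = _
      rw [act_sum, Submodule.coe_sum]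
      exact Finset.sum_congr rfl fun i _ => hga i)]
    show (f (∑ i, p i) : ℤ) • v₂ = v₂
    rw [hp1, Units.val_one, one_smul]
  have hNk : ∀ k, φ (NN hF fr k) v₂ = ((∏ i ∈ Finset.range k, f (p (-(i : Fin m))) : ℤˣ) : ℤ) • v₂ := by
    intro k
    induction k with
    | zero => simp [NN]
    | succ k ih =>
      rw [NN_succ, hmulφ, hta, map_zsmul, ih, smul_smul, Finset.prod_range_succ, Units.val_mul, mul_comm]
  have hN : φ (NN hF fr m) v₂ = -v₂ := by
    rw [hNk, Finset.prod_range]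
    have : ∏ i : Fin m, f (p (-(((i : Fin m) : ℕ) : Fin m))) = -1 := by
      rw [← hp2]
      exact Fintype.prod_equiv (Equiv.neg (Fin m)) _ _ (fun i => by simp)
    rw [this]
    simp
  obtain ⟨w, hw, h⟩ := exists_fixed hodd φ (AA hF fr) (fun a ha b hb => AA.comm ha hb) hv20 hAv2
    (u := uu hF fr hs hl) (s := s) (fun a ha => AA.conj ha (fun w hw => uu_mem hF fr hs hl hw))
    (fun a ha => by rw [← hs]; exact AA.comm_RR ha (uu_pow_m hF fr hs hl))
    (by rw [← hs, uu_sq]; exact hsa) (ta_mem hF fr 0)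
    (by rw [← hs]; exact ua_pow hF fr hs hl m) hN
  rcases h with h | h
  · exact ⟨_, orderOf_uu hF fr hs hl, w, hw, h⟩
  · exact ⟨_, orderOf_ua hF fr hs hl, w, hw, h⟩

end Cfsg.Agent.H371.KU
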